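import Cfsg.Agent.H721.SR.Orth
import Cfsg.Agent.H160.QFinal

/-!
# TEAM SR (S4971, S4970), task SR-OODD_R: orthogonal groups, `q` odd, the strongly real rows (helper164)

* `sr_omega`, `sr_pomega` : from `T Q g 1 1` to `SR` in `Ω(Q)`, `PΩ(Q)`;
* `dc_plusForm`, `dc_minusForm'` : the classes of the forms;
* `Dec F` : the statement of the task SR-OODD_D (the three corollaries);
* `sr_odd_one`, `sr_odd_nine`, `sr_plus_one`, `sr_plus_eight`, `sr_minus` : the rows;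
* `rr_oodd`, `rr_oplus`, `rr_ominus` : assembly of the orthogonal families.
-/

set_option autoImplicit false
set_option linter.unusedSectionVars false

namespace Cfsg.Agent.H164.SRO

open QuadraticMap Module
open Cfsg.Agent.LieClassical.OrthCore Cfsg.Agent.LieClassical.OrthFinite Cfsg.Agent.LieClassical.OrthForms
open Cfsg.Agent.H160.QSpin Cfsg.Agent.H160.QDisc Cfsg.Agent.H160.QFinal Cfsg.Agent.H160.QSemi
open Cfsg.Agent.H721.SR

universe u v

section general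

variable {F : Type u} [Field F] [Finite F] {ι : Type} [Fintype ι] [DecidableEq ι]

theorem sr_omega (h2 : (2 : F) ≠ 0) {Q : QuadraticForm F (ι → F)} (hQ : Nondeg Q) (hd : 5 ≤ Fintype.card ι)
    (x : Cfsg.Omega F ⇑Q) (h : T Q (lin Q x) 1 1) : SR x := by
  obtain ⟨h, hO, hh, hi, hdet, hs⟩ := h
  obtain ⟨t, rfl⟩ := exists_lin h2 hQ hd ⟨hO, hdet, hs⟩
  refine ⟨t, lin_injective Q (by rw [map_mul, hh, map_one]), lin_injective Q ?_⟩
  rw [map_mul, map_mul, map_inv, map_inv, hi]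

/-- **From `T Q g 1 1` to the group.** -/
theorem sr_pomega (h2 : (2 : F) ≠ 0) {Q : QuadraticForm F (ι → F)} (hQ : Nondeg Q) (hd : 5 ≤ Fintype.card ι)
    (hT : ∀ g : (ι → F) ≃ₗ[F] (ι → F), El Q 1 g → T Q g 1 1) (x : Cfsg.POmega F ⇑Q) : SR x := by
  obtain ⟨y, rfl⟩ := QuotientGroup.mk'_surjective _ x
  exact (sr_omega h2 hQ hd y (hT _ (el_lin h2 hQ hd y))).map (QuotientGroup.mk' _)

/-- the odd-dimensional groups -/
theorem sr_odd_of (h2 : (2 : F) ≠ 0) {m : ℕ} (hm : 2 ≤ m)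
    (hT : ∀ g : (Unit ⊕ (Fin m ⊕ Fin m) → F) ≃ₗ[F] (Unit ⊕ (Fin m ⊕ Fin m) → F),
      El (oddForm m F) 1 g → T (oddForm m F) g 1 1) (x : Cfsg.POmega F (Cfsg.quadFormOdd m F)) : SR x := by
  revert x
  rw [← coe_oddForm m F]
  intro x
  exact sr_pomega h2 (nondeg_oddForm m F h2) (by simp; omega) hT x

/-- the groups of plus type -/
theorem sr_plus_of (h2 : (2 : F) ≠ 0) {m : ℕ} (hm : 3 ≤ m)
    (hT : ∀ g : (Fin m ⊕ Fin m → F) ≃ₗ[F] (Fin m ⊕ Fin m → F),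
      El (plusForm m F) 1 g → T (plusForm m F) g 1 1) (x : Cfsg.POmega F (Cfsg.quadFormPlus m F)) : SR x := by
  revert x
  rw [← coe_plusForm m F]
  intro x
  exact sr_pomega h2 (nondeg_plusForm m F) (by simp; omega) hT x

/-- the groups of minus type -/
theorem sr_minus_of (h2 : (2 : F) ≠ 0) {m : ℕ} (hm : 2 ≤ m) {a b : F}
    (hab : ∀ z₁ z₂ : F, z₁ ^ 2 + a * z₁ * z₂ + b * z₂ ^ 2 = 0 → z₁ = 0 ∧ z₂ = 0)
    (hT : ∀ g : ((Fin m ⊕ Fin m) ⊕ Fin 2 → F) ≃ₗ[F] ((Fin m ⊕ Fin m) ⊕ Fin 2 → F),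
      El (minusForm m F a b) 1 g → T (minusForm m F a b) g 1 1)
    (x : Cfsg.POmega F (Cfsg.quadFormMinus m F a b)) : SR x := by
  revert x
  rw [← coe_minusForm m F]
  intro x
  exact sr_pomega h2 (nondeg_minusForm m F a b hab) (by simp; omega) hT x

end general

section disc

variable {F : Type u} [Field F] [Fintype F] [DecidableEq F]

theorem dc_plusForm (m : ℕ) : dc (plusForm m F) = quadraticChar F (-1) ^ m := by
  have he : IsIso (hyp F m) (plusForm m F) (LinearEquiv.sumArrowLequivProdArrow (Fin m) (Fin m) F F).symm := by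
    rintro ⟨x, y⟩
    rw [coe_plusForm, quadFormPlus_apply]
    rfl
  rw [dc_iso he, dc_hyp]

theorem chi_sq : quadraticChar F (-1) ^ 2 = 1 := quadraticChar_sq_one (neg_ne_zero.2 one_ne_zero)

theorem dc_minusForm' (h2 : (2 : F) ≠ 0) (m : ℕ) {a b : F}
    (hab : ∀ z₁ z₂ : F, z₁ ^ 2 + a * z₁ * z₂ + b * z₂ ^ 2 = 0 → z₁ = 0 ∧ z₂ = 0) :
    dc (minusForm m F a b) = - quadraticChar F (-1) ^ (m + 1) := by
  let e : (((Fin m → F) × (Fin m → F)) × (Fin 2 → F)) ≃ₗ[F] ((Fin m ⊕ Fin m) ⊕ Fin 2 → F) :=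
    ((LinearEquiv.sumArrowLequivProdArrow (Fin m) (Fin m) F F).symm.prodCongr (LinearEquiv.refl F _)).trans
      (LinearEquiv.sumArrowLequivProdArrow (Fin m ⊕ Fin m) (Fin 2) F F).symm
  have he : IsIso ((hyp F m).prod (binF a b)) (minusForm m F a b) e := by
    rintro ⟨⟨x, y⟩, z⟩
    rw [coe_minusForm, quadFormMinus_apply, QuadraticMap.prod_apply, binF_apply]
    rfl
  rw [dc_iso he, dc_prod, dc_hyp, dc_binF]
  have h3 : quadraticChar F (4 * b - a ^ 2) = quadraticChar F (-1) * quadraticChar F (a ^ 2 - 4 * b) := by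
    rw [← map_mul]
    congr 1
    ring
  rw [h3, minus_disc h2 hab]
  ring

theorem dc_plus_four (n : ℕ) : dc (plusForm (2 * n) F) = 1 := by
  rw [dc_plusForm, pow_mul, chi_sq, one_pow]

theorem dc_minus_four (h2 : (2 : F) ≠ 0) {n : ℕ} (hn : 1 ≤ n) {a b : F}
    (hab : ∀ z₁ z₂ : F, z₁ ^ 2 + a * z₁ * z₂ + b * z₂ ^ 2 = 0 → z₁ = 0 ∧ z₂ = 0) :
    dc (minusForm (2 * n - 1) F a b) = -1 := by
  rw [dc_minusForm' h2 _ hab, show 2 * n - 1 + 1 = 2 * n by omega, pow_mul, chi_sq, one_pow]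

theorem chi_eq_one (h : Fintype.card F % 4 ≠ 3) : quadraticChar F (-1) = 1 := by
  rw [quadraticChar_one_iff_isSquare (neg_ne_zero.2 one_ne_zero)]
  exact FiniteField.isSquare_neg_one_iff.2 h

end disc

section dec

/-- the result of the task SR-OODD_D: the three corollaries of the decomposition theorem -/
def Dec (F : Type u) [Field F] [Fintype F] [DecidableEq F] : Prop :=
  ∀ (V : Type u) [AddCommGroup V] [Module F V] [FiniteDimensional F V] [Finite V] (Q : QuadraticForm F V),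
    Nondeg Q → (Odd (finrank F V) ∨ 4 ∣ finrank F V) →
    (quadraticChar F (-1) = 1 ∨ (4 ∣ finrank F V ∧ dc Q = -1) ∨ finrank F V = 8 ∨ finrank F V = 9) →
    ∀ g : V ≃ₗ[F] V, El Q 1 g → T Q g 1 1

variable {F : Type u} [Field F] [Fintype F] [DecidableEq F]

theorem two_ne (ho : Odd (Fintype.card F)) : (2 : F) ≠ 0 := by
  intro h
  have hc : CharP F 2 := CharTwo.of_one_ne_zero_of_two_eq_zero one_ne_zero h
  have h3 := FiniteField.even_card_of_char_two (F := F) (ringChar.eq F 2 |>.symm ▸ rfl)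
  rw [Nat.odd_iff] at ho
  omega

/-- `PΩ_{2m+1}(q)`, `q ≡ 1 mod 4` -/
theorem sr_odd_one (hD : Dec F) (hF : Fintype.card F % 4 = 1) {m : ℕ} (hm : 2 ≤ m)
    (x : Cfsg.POmega F (Cfsg.quadFormOdd m F)) : SR x := by
  have h2 : (2 : F) ≠ 0 := two_ne (by rw [Nat.odd_iff]; omega)
  refine sr_odd_of h2 hm (hD _ _ (nondeg_oddForm m F h2) (Or.inl ?_) (Or.inl (chi_eq_one (by omega)))) x
  rw [Module.finrank_fintype_fun_eq_card]
  simp only [Fintype.card_sum, Fintype.card_fin, Fintype.card_unit]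
  exact ⟨m, by ring⟩

/-- `PΩ_9(q)`, `q` odd -/
theorem sr_odd_nine (hD : Dec F) (hF : Odd (Fintype.card F)) (x : Cfsg.POmega F (Cfsg.quadFormOdd 4 F)) : SR x := by
  have h2 : (2 : F) ≠ 0 := two_ne hF
  have h9 : finrank F (Unit ⊕ (Fin 4 ⊕ Fin 4) → F) = 9 := by
    rw [Module.finrank_fintype_fun_eq_card]
    simp
  refine sr_odd_of h2 (by norm_num) (hD _ _ (nondeg_oddForm 4 F h2) (Or.inl ?_) (Or.inr (Or.inr (Or.inr h9)))) x
  rw [h9]
  decide

/-- `PΩ⁺_{4n}(q)`, `q ≡ 1 mod 4` -/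
theorem sr_plus_one (hD : Dec F) (hF : Fintype.card F % 4 = 1) {n : ℕ} (hn : 2 ≤ n)
    (x : Cfsg.POmega F (Cfsg.quadFormPlus (2 * n) F)) : SR x := by
  have h2 : (2 : F) ≠ 0 := two_ne (by rw [Nat.odd_iff]; omega)
  refine sr_plus_of h2 (by omega) (hD _ _ (nondeg_plusForm (2 * n) F) (Or.inr ?_) (Or.inl (chi_eq_one (by omega)))) x
  rw [Module.finrank_fintype_fun_eq_card]
  simp only [Fintype.card_sum, Fintype.card_fin]
  exact ⟨n, by ring⟩

/-- `PΩ⁺_8(q)`, `q` odd -/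
theorem sr_plus_eight (hD : Dec F) (hF : Odd (Fintype.card F)) (x : Cfsg.POmega F (Cfsg.quadFormPlus 4 F)) : SR x := by
  have h2 : (2 : F) ≠ 0 := two_ne hF
  have h8 : finrank F (Fin 4 ⊕ Fin 4 → F) = 8 := by
    rw [Module.finrank_fintype_fun_eq_card]
    simp
  refine sr_plus_of h2 (by norm_num) (hD _ _ (nondeg_plusForm 4 F) (Or.inr ?_) (Or.inr (Or.inr (Or.inl h8)))) x
  rw [h8]
  norm_num

/-- `PΩ⁻_{4n}(q)`, `q` odd -/
theorem sr_minus (hD : Dec F) (hF : Odd (Fintype.card F)) {n : ℕ} (hn : 2 ≤ n) {a b : F}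
    (hab : ∀ z₁ z₂ : F, z₁ ^ 2 + a * z₁ * z₂ + b * z₂ ^ 2 = 0 → z₁ = 0 ∧ z₂ = 0)
    (x : Cfsg.POmega F (Cfsg.quadFormMinus (2 * n - 1) F a b)) : SR x := by
  have h2 : (2 : F) ≠ 0 := two_ne hF
  have h4 : 4 ∣ finrank F ((Fin (2 * n - 1) ⊕ Fin (2 * n - 1)) ⊕ Fin 2 → F) := by
    rw [Module.finrank_fintype_fun_eq_card]
    simp only [Fintype.card_sum, Fintype.card_fin]
    exact ⟨n, by omega⟩
  exact sr_minus_of h2 (by omega) hab (hD _ _ (nondeg_minusForm _ F a b hab) (Or.inr h4)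
    (Or.inr (Or.inl ⟨h4, dc_minus_four h2 (by omega) hab⟩))) x

end dec

/-! ### assembly of the orthogonal families -/

section assembly

/-- the hypothesis `Dec` for all fields -/
def DecAll : Prop := ∀ (F : Type) [Field F] [Fintype F] [DecidableEq F], Odd (Fintype.card F) → Dec F

/-- **`PΩ_{2m+1}(q)`, `q` odd, `m ≥ 3`.** -/
theorem rr_oodd {S : Type v} [Group S] (h : Cfsg.IsPOmegaOdd S) (hD : DecAll)
    (hN : ∀ (F : Type) [Field F] [Fintype F] (m : ℕ), 3 ≤ m → m ≠ 4 → Fintype.card F % 4 = 3 →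
      NRel (Cfsg.POmega F (Cfsg.quadFormOdd m F))) : RR S := by
  classical
  obtain ⟨F, _, _, m, hm, hF, ⟨e⟩⟩ := h
  refine RR.congr e.symm ?_
  have hF' := Nat.odd_iff.1 hF
  rcases (by omega : Fintype.card F % 4 = 1 ∨ Fintype.card F % 4 = 3) with h1 | h3
  · exact RR.of_sr (sr_odd_one (hD F hF) h1 (by omega))
  · by_cases h4 : m = 4
    · subst h4
      exact RR.of_sr (sr_odd_nine (hD F hF) hF)
    · exact RR.of_nrel (hN F m hm h4 h3)

/-- **`PΩ⁺_{2m}(q)`, `m ≥ 4`.** -/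
theorem rr_oplus {S : Type v} [Group S] (h : Cfsg.IsPOmegaPlus S) (hD : DecAll)
    (hodd : ∀ (F : Type) [Field F] [Fintype F] (m : ℕ), 5 ≤ m → Odd m → NRel (Cfsg.POmega F (Cfsg.quadFormPlus m F)))
    (heven : ∀ (F : Type) [Field F] [Fintype F] (n : ℕ), 2 ≤ n → Even (Fintype.card F) →
      ∀ x : Cfsg.POmega F (Cfsg.quadFormPlus (2 * n) F), SR x)
    (hN : ∀ (F : Type) [Field F] [Fintype F] (n : ℕ), 3 ≤ n → Fintype.card F % 4 = 3 →
      NRel (Cfsg.POmega F (Cfsg.quadFormPlus (2 * n) F))) : RR S := by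
  classical
  obtain ⟨F, _, _, m, hm, ⟨e⟩⟩ := h
  refine RR.congr e.symm ?_
  rcases Nat.even_or_odd m with hme | hmo
  · obtain ⟨n, rfl⟩ := even_iff_two_dvd.1 hme
    rcases Nat.even_or_odd (Fintype.card F) with hF | hF
    · exact RR.of_sr (heven F n (by omega) hF)
    · have hF' := Nat.odd_iff.1 hF
      rcases (by omega : Fintype.card F % 4 = 1 ∨ Fintype.card F % 4 = 3) with h1 | h3
      · exact RR.of_sr (sr_plus_one (hD F hF) h1 (by omega))
      · by_cases h4 : n = 2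
        · subst h4
          exact RR.of_sr (sr_plus_eight (hD F hF) hF)
        · exact RR.of_nrel (hN F n (by omega) h3)
  · exact RR.of_nrel (hodd F m (by obtain ⟨c, rfl⟩ := hmo; omega) hmo)

/-- **`PΩ⁻_{2m}(q)`, `m ≥ 4`.** -/
theorem rr_ominus {S : Type v} [Group S] (h : Cfsg.IsPOmegaMinus S) (hD : DecAll)
    (hodd : ∀ (F : Type) [Field F] [Fintype F] (m : ℕ) (a b : F), 5 ≤ m → Odd m →
      (∀ z₁ z₂ : F, z₁ ^ 2 + a * z₁ * z₂ + b * z₂ ^ 2 = 0 → z₁ = 0 ∧ z₂ = 0) →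
      NRel (Cfsg.POmega F (Cfsg.quadFormMinus (m - 1) F a b)))
    (heven : ∀ (F : Type) [Field F] [Fintype F] (n : ℕ) (a b : F), 2 ≤ n → Even (Fintype.card F) →
      (∀ z₁ z₂ : F, z₁ ^ 2 + a * z₁ * z₂ + b * z₂ ^ 2 = 0 → z₁ = 0 ∧ z₂ = 0) →
      ∀ x : Cfsg.POmega F (Cfsg.quadFormMinus (2 * n - 1) F a b), SR x) : RR S := by
  classical
  obtain ⟨F, _, _, m, a, b, hm, hab, ⟨e⟩⟩ := h
  refine RR.congr e.symm ?_
  rcases Nat.even_or_odd m with hme | hmo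
  · obtain ⟨n, rfl⟩ := even_iff_two_dvd.1 hme
    rcases Nat.even_or_odd (Fintype.card F) with hF | hF
    · exact RR.of_sr (heven F n a b (by omega) hF hab)
    · exact RR.of_sr (sr_minus (hD F hF) hF (by omega) hab)
  · exact RR.of_nrel (hodd F m a b (by obtain ⟨c, rfl⟩ := hmo; omega) hmo hab)

end assembly

end Cfsg.Agent.H164.SRO
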